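import Mathlib

set_option autoImplicit false

namespace Groth.Agent.DiagIdeal

open TensorProduct

universe u v w

variable {k : Type u} [Field k] {A : Type v} [CommRing A] [Algebra k A]
  {Q : Type w} [AddCommGroup Q] [Module k Q]

/-- Coinduced module `Hom_k(A, Q)`. -/
def CoInd (k : Type u) [Field k] (A : Type v) [CommRing A] [Algebra k A]
    (Q : Type w) [AddCommGroup Q] [Module k Q] : Type (max v w) := A →ₗ[k] Q

noncomputable instance : AddCommGroup (CoInd k A Q) :=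
  inferInstanceAs (AddCommGroup (A →ₗ[k] Q))

noncomputable instance : Module k (CoInd k A Q) :=
  inferInstanceAs (Module k (A →ₗ[k] Q))

/-- Underlying map. -/
def CoInd.lin (f : CoInd k A Q) : A →ₗ[k] Q := f

theorem CoInd.ext' {f g : CoInd k A Q} (h : ∀ x, f.lin x = g.lin x) : f = g :=
  LinearMap.ext h

noncomputable instance : SMul A (CoInd k A Q) :=
  ⟨fun a f => (f.lin.comp (LinearMap.mulRight k a) : A →ₗ[k] Q)⟩

theorem CoInd.lin_smul (a : A) (f : CoInd k A Q) (x : A) : (a • f).lin x = f.lin (x * a) := rfl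
theorem CoInd.lin_add (f g : CoInd k A Q) (x : A) : (f + g).lin x = f.lin x + g.lin x := rfl
theorem CoInd.lin_zero (x : A) : (0 : CoInd k A Q).lin x = 0 := rfl
theorem CoInd.lin_ksmul (c : k) (f : CoInd k A Q) (x : A) : (c • f).lin x = c • f.lin x := rfl

noncomputable instance : Module A (CoInd k A Q) where
  one_smul f := CoInd.ext' fun x => by rw [CoInd.lin_smul, mul_one]
  mul_smul a b f := CoInd.ext' fun x => by
    rw [CoInd.lin_smul, CoInd.lin_smul, CoInd.lin_smul, mul_assoc]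
  smul_zero a := CoInd.ext' fun x => by rw [CoInd.lin_smul, CoInd.lin_zero, CoInd.lin_zero]
  smul_add a f g := CoInd.ext' fun x => by
    rw [CoInd.lin_smul, CoInd.lin_add, CoInd.lin_add, CoInd.lin_smul, CoInd.lin_smul]
  add_smul a b f := CoInd.ext' fun x => by
    rw [CoInd.lin_smul, CoInd.lin_add, CoInd.lin_smul, CoInd.lin_smul, mul_add, map_add]
  zero_smul f := CoInd.ext' fun x => by rw [CoInd.lin_smul, CoInd.lin_zero, mul_zero, map_zero]

noncomputable instance : IsScalarTower k A (CoInd k A Q) where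
  smul_assoc c a f := CoInd.ext' fun x => by
    rw [CoInd.lin_smul, CoInd.lin_ksmul, CoInd.lin_smul, mul_smul_comm, map_smul]

/-- A bilinear map satisfying the Leibniz rule in the second variable factors through `Ω`. -/
theorem exists_lift (φ : A →ₗ[k] A →ₗ[k] Q)
    (hφ : ∀ a b c, φ a (b * c) = φ (a * b) c + φ (a * c) b) :
    ∃ Φ : Ω[A⁄k] →ₗ[k] Q, ∀ a b, Φ (a • KaehlerDifferential.D k A b) = φ a b := by
  let D₀ : A →ₗ[k] CoInd k A Q :=
    { toFun := fun b => φ.flip b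
      map_add' := fun b c => φ.flip.map_add b c
      map_smul' := fun c b => φ.flip.map_smul c b }
  let d : Derivation k A (CoInd k A Q) :=
    Derivation.mk' D₀ fun b c => CoInd.ext' fun a => by
      rw [CoInd.lin_add, CoInd.lin_smul, CoInd.lin_smul]
      exact hφ a b c
  let ev : CoInd k A Q →ₗ[k] Q :=
    { toFun := fun f => f.lin 1
      map_add' := fun _ _ => rfl
      map_smul' := fun _ _ => rfl }
  refine ⟨ev.comp (d.liftKaehlerDifferential.restrictScalars k), fun a b => ?_⟩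
  simp only [LinearMap.comp_apply, LinearMap.restrictScalars_apply, map_smul,
    Derivation.liftKaehlerDifferential_comp_D]
  change (a • d b).lin 1 = φ a b
  rw [CoInd.lin_smul, one_mul]; rfl

theorem sym3_iff [CharZero k] (r : A ⊗[k] (A ⊗[k] A) →ₗ[k] A ⊗[k] A)
    (hr : ∀ a b c : A, r (a ⊗ₜ[k] (b ⊗ₜ[k] c)) = (a * b) ⊗ₜ[k] c)
    (D : A ⊗[k] A →ₗ[k] Ω[A⁄k])
    (hD : ∀ a b : A, D (a ⊗ₜ[k] b) =
      (2 : A) • (a • KaehlerDifferential.D k A b) - b • KaehlerDifferential.D k A a) :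
    (∀ y : A ⊗[k] A, D y = 0 ↔ ∃ x : A ⊗[k] (A ⊗[k] A), TensorProduct.leftComm k A A A x = x ∧
      LinearMap.lTensor A (TensorProduct.comm k A A).toLinearMap x = x ∧ r x = y) ∧
    Function.Surjective D := by
  classical
  let δ := KaehlerDifferential.D k A
  let s1 : A ⊗[k] (A ⊗[k] A) →ₗ[k] A ⊗[k] (A ⊗[k] A) := (TensorProduct.leftComm k A A A).toLinearMap
  let s2 : A ⊗[k] (A ⊗[k] A) →ₗ[k] A ⊗[k] (A ⊗[k] A) :=
    LinearMap.lTensor A (TensorProduct.comm k A A).toLinearMap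
  let sym : A ⊗[k] (A ⊗[k] A) →ₗ[k] A ⊗[k] (A ⊗[k] A) :=
    LinearMap.id + s1 + s2 + s1.comp s2 + s2.comp s1 + s1.comp (s2.comp s1)
  have hsym : ∀ a b c : A, sym (a ⊗ₜ[k] (b ⊗ₜ[k] c)) =
      a ⊗ₜ[k] (b ⊗ₜ[k] c) + b ⊗ₜ[k] (a ⊗ₜ[k] c) + a ⊗ₜ[k] (c ⊗ₜ[k] b) + c ⊗ₜ[k] (a ⊗ₜ[k] b) +
        b ⊗ₜ[k] (c ⊗ₜ[k] a) + c ⊗ₜ[k] (b ⊗ₜ[k] a) := by
    intro a b c; simp [sym, s1, s2]
  have hinv1 : s1.comp sym = sym := by
    apply TensorProduct.ext'
    intro a z
    induction z with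
    | tmul b c => simp only [LinearMap.comp_apply, hsym]; simp [s1]; abel
    | add x y hx hy => rw [TensorProduct.tmul_add, map_add, map_add, hx, hy]
    | zero => simp
  have hinv2 : s2.comp sym = sym := by
    apply TensorProduct.ext'
    intro a z
    induction z with
    | tmul b c => simp only [LinearMap.comp_apply, hsym]; simp [s2]; abel
    | add x y hx hy => rw [TensorProduct.tmul_add, map_add, map_add, hx, hy]
    | zero => simp
  let W : Submodule k (A ⊗[k] A) :=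
    { carrier := {y | ∃ x, s1 x = x ∧ s2 x = x ∧ r x = y}
      add_mem' := fun ⟨x, h1, h2, h3⟩ ⟨x', h1', h2', h3'⟩ =>
        ⟨x + x', by rw [map_add, h1, h1'], by rw [map_add, h2, h2'], by rw [map_add, h3, h3']⟩
      zero_mem' := ⟨0, by simp, by simp, by simp⟩
      smul_mem' := fun c y ⟨x, h1, h2, h3⟩ =>
        ⟨c • x, by rw [map_smul, h1], by rw [map_smul, h2], by rw [map_smul, h3]⟩ }
  have hT : ∀ a b c : A, (a * b) ⊗ₜ[k] c + (a * c) ⊗ₜ[k] b + (b * c) ⊗ₜ[k] a ∈ W := by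
    intro a b c
    refine ⟨(2 : k)⁻¹ • sym (a ⊗ₜ[k] (b ⊗ₜ[k] c)), ?_, ?_, ?_⟩
    · rw [map_smul, ← LinearMap.comp_apply s1, hinv1]
    · rw [map_smul, ← LinearMap.comp_apply s2, hinv2]
    · rw [map_smul, hsym]
      simp only [map_add, hr, mul_comm b a, mul_comm c a, mul_comm c b]
      rw [inv_smul_eq_iff₀ (two_ne_zero), two_smul]
      abel
  let ψ : A →ₗ[k] A →ₗ[k] (A ⊗[k] A) ⧸ W :=
    LinearMap.compr₂ ((3 : k)⁻¹ • ((2 : k) • TensorProduct.mk k A A + (TensorProduct.mk k A A).flip)) W.mkQ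
  have hψ : ∀ a b, ψ a b =
      W.mkQ ((3 : k)⁻¹ • ((2 : k) • (a ⊗ₜ[k] b) + b ⊗ₜ[k] a)) := fun a b => by simp [ψ]
  have h3 : (3 : k) ≠ 0 := three_ne_zero
  obtain ⟨Φ, hΦ⟩ := exists_lift ψ (fun a b c => by
    simp only [hψ, ← map_add]
    refine (Submodule.Quotient.eq W).mpr ?_
    have hU := W.add_mem (W.add_mem (hT a b c) (W.neg_mem (hT (a * b * c) 1 1)))
      (W.zero_mem)
    have key : (3 : k)⁻¹ • ((2 : k) • (a ⊗ₜ[k] (b * c)) + (b * c) ⊗ₜ[k] a) -
        ((3 : k)⁻¹ • ((2 : k) • ((a * b) ⊗ₜ[k] c) + c ⊗ₜ[k] (a * b)) +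
          (3 : k)⁻¹ • ((2 : k) • ((a * c) ⊗ₜ[k] b) + b ⊗ₜ[k] (a * c))) =
      (3 : k)⁻¹ • ((3 : k) • ((a * 1) ⊗ₜ[k] (b * c) + (a * (b * c)) ⊗ₜ[k] (1 : A) +
            (1 * (b * c)) ⊗ₜ[k] a)
        - (2 : k) • ((a * b) ⊗ₜ[k] c + (a * c) ⊗ₜ[k] b + (b * c) ⊗ₜ[k] a)
        - ((a * 1) ⊗ₜ[k] (b * c) + (a * (b * c)) ⊗ₜ[k] (1 : A) + (1 * (b * c)) ⊗ₜ[k] a)
        - ((b * 1) ⊗ₜ[k] (a * c) + (b * (a * c)) ⊗ₜ[k] (1 : A) + (1 * (a * c)) ⊗ₜ[k] b)
        - ((c * 1) ⊗ₜ[k] (a * b) + (c * (a * b)) ⊗ₜ[k] (1 : A) + (1 * (a * b)) ⊗ₜ[k] c)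
        + ((a * c) ⊗ₜ[k] b + (a * b) ⊗ₜ[k] c + (b * c) ⊗ₜ[k] a)) := by
      simp only [mul_one, one_mul, show b * (a * c) = a * (b * c) by ring,
        show c * (a * b) = a * (b * c) by ring]
      module
    rw [key]
    refine W.smul_mem _ (add_mem (sub_mem (sub_mem (sub_mem (sub_mem
      (W.smul_mem _ (hT a 1 (b * c))) (W.smul_mem _ (hT a b c))) (hT a 1 (b * c)))
      (hT b 1 (a * c))) (hT c 1 (a * b))) ?_)
    have := hT a c b
    rwa [mul_comm c b] at this)
  have hDT : ∀ a b c : A, D (r (sym (a ⊗ₜ[k] (b ⊗ₜ[k] c)))) = 0 := by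
    intro a b c
    rw [hsym]
    simp only [map_add, hr, hD, Derivation.leibniz]
    module
  have hid : ∀ y, Φ (D y) = W.mkQ y := by
    intro y
    have : Φ.comp D = W.mkQ := by
      apply TensorProduct.ext'
      intro a b
      simp only [LinearMap.comp_apply, hD, map_sub]
      rw [show (2 : A) • (a • δ b) = a • δ b + a • δ b from two_smul A _, map_add, hΦ, hΦ, hψ, hψ,
        ← map_add, ← map_sub]
      congr 1
      rw [← sub_eq_zero]
      have e3 : (3 : k)⁻¹ * 3 = 1 := inv_mul_cancel₀ h3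
      match_scalars <;> field_simp <;> ring
    exact LinearMap.congr_fun this y
  refine ⟨fun y => ⟨fun hy => ?_, ?_⟩, ?_⟩
  · have := hid y
    rw [hy, map_zero] at this
    exact (Submodule.Quotient.mk_eq_zero W).mp this.symm
  · rintro ⟨x, h1, h2, rfl⟩
    have hx : sym x = (6 : k) • x := by
      have h1' : s1 x = x := h1
      have h2' : s2 x = x := h2
      simp only [sym, LinearMap.add_apply, LinearMap.comp_apply, LinearMap.id_apply, h1', h2']
      module
    have h0 : D (r (sym x)) = 0 := by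
      have : (D.comp r).comp sym = 0 := by
        apply TensorProduct.ext'
        intro a z
        induction z with
        | tmul b c => exact hDT a b c
        | add x y hx hy => rw [TensorProduct.tmul_add, map_add, hx, hy]; simp
        | zero => simp
      exact LinearMap.congr_fun this x
    rw [hx, map_smul, map_smul] at h0
    exact (smul_eq_zero.mp h0).resolve_left (by norm_num)
  · intro ω
    have hω : ω ∈ Submodule.span A (Set.range δ) := by
      rw [KaehlerDifferential.span_range_derivation]; trivial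
    suffices ω ∈ LinearMap.range D from this
    suffices ∀ a : A, a • ω ∈ LinearMap.range D by simpa using this 1
    induction hω using Submodule.span_induction with
    | mem z hz =>
      obtain ⟨b, rfl⟩ := hz
      intro a
      refine ⟨(3 : k)⁻¹ • ((2 : k) • (a ⊗ₜ[k] b) + b ⊗ₜ[k] a), ?_⟩
      simp only [map_smul, map_add, hD, two_smul A]
      generalize a • δ b = X
      generalize b • δ a = Y
      match_scalars <;> field_simp <;> ring
    | zero => intro a; simp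
    | add z w _ _ hz hw => intro a; rw [smul_add]; exact add_mem (hz a) (hw a)
    | smul c z _ hz => intro a; rw [smul_smul]; exact hz _

theorem transposition_iff [CharZero k] (r₁₂ r₂₃ : A ⊗[k] (A ⊗[k] A) →ₗ[k] A ⊗[k] A)
    (h₁₂ : ∀ a u v : A, r₁₂ (a ⊗ₜ[k] (u ⊗ₜ[k] v)) = (a * u) ⊗ₜ[k] v)
    (h₂₃ : ∀ a u v : A, r₂₃ (a ⊗ₜ[k] (u ⊗ₜ[k] v)) = (u * v) ⊗ₜ[k] a)
    (ψ : (A ⊗[k] A) × (A ⊗[k] A) →ₗ[k] Ω[A⁄k])
    (hψ : ∀ a u b v : A, ψ (a ⊗ₜ[k] u, b ⊗ₜ[k] v) =
      (2 : A) • (a • KaehlerDifferential.D k A u) - v • KaehlerDifferential.D k A b) :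
    (∀ p q : A ⊗[k] A, LinearMap.mul' k A p = LinearMap.mul' k A q →
      (ψ (p, q) = 0 ↔ ∃ x : A ⊗[k] (A ⊗[k] A),
        LinearMap.lTensor A (TensorProduct.comm k A A).toLinearMap x = x ∧ r₁₂ x = p ∧ r₂₃ x = q)) ∧
    (∀ ω : Ω[A⁄k], ∃ p q : A ⊗[k] A, LinearMap.mul' k A p = LinearMap.mul' k A q ∧ ψ (p, q) = ω) := by
  classical
  let δ := KaehlerDifferential.D k A
  let s : A ⊗[k] (A ⊗[k] A) →ₗ[k] A ⊗[k] (A ⊗[k] A) :=
    LinearMap.lTensor A (TensorProduct.comm k A A).toLinearMap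
  let R : A ⊗[k] (A ⊗[k] A) →ₗ[k] (A ⊗[k] A) × (A ⊗[k] A) := LinearMap.prod r₁₂ r₂₃
  let W : Submodule k ((A ⊗[k] A) × (A ⊗[k] A)) :=
    { carrier := {w | ∃ x, s x = x ∧ R x = w}
      add_mem' := fun ⟨x, h, h'⟩ ⟨y, g, g'⟩ =>
        ⟨x + y, by rw [map_add, h, g], by rw [map_add, h', g']⟩
      zero_mem' := ⟨0, by simp, by simp⟩
      smul_mem' := fun c w ⟨x, h, h'⟩ => ⟨c • x, by rw [map_smul, h], by rw [map_smul, h']⟩ }
  have hT : ∀ a u v : A, (((a * u) ⊗ₜ[k] v + (a * v) ⊗ₜ[k] u, (2 : k) • ((u * v) ⊗ₜ[k] a)) :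
      (A ⊗[k] A) × (A ⊗[k] A)) ∈ W := by
    intro a u v
    refine ⟨a ⊗ₜ[k] (u ⊗ₜ[k] v) + a ⊗ₜ[k] (v ⊗ₜ[k] u), by simp [s, add_comm], ?_⟩
    simp [R, h₁₂, h₂₃, two_smul, mul_comm v u]
  let Z : (A →ₗ[k] A →ₗ[k] A ⊗[k] A) :=
    TensorProduct.mk k A A - LinearMap.compr₂ (LinearMap.mul k A) ((TensorProduct.mk k A A).flip 1)
  have hZ : ∀ a b, Z a b = a ⊗ₜ[k] b - (a * b) ⊗ₜ[k] (1 : A) := fun a b => by simp [Z]
  let φ : A →ₗ[k] A →ₗ[k] ((A ⊗[k] A) × (A ⊗[k] A)) ⧸ W :=
    LinearMap.compr₂ Z (W.mkQ.comp (LinearMap.inl k _ _))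
  have hφ : ∀ a b, φ a b = W.mkQ (a ⊗ₜ[k] b - (a * b) ⊗ₜ[k] (1 : A), 0) := fun a b => by
    simp [φ, hZ]
  obtain ⟨Φ, hΦ⟩ := exists_lift φ (fun a b c => by
    simp only [hφ, ← map_add]
    refine (Submodule.Quotient.eq W).mpr ?_
    have h := W.sub_mem (hT a (b * c) 1) (hT a b c)
    convert h using 1
    refine Prod.ext ?_ ?_
    · simp only [Prod.fst_sub, Prod.fst_add, mul_one, one_mul]
      rw [show a * c * b = a * (b * c) by ring, show a * b * c = a * (b * c) by ring]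
      module
    · simp only [Prod.snd_sub, Prod.snd_add, mul_one]
      module)
  let e : A →ₗ[k] ((A ⊗[k] A) × (A ⊗[k] A)) ⧸ W :=
    (W.mkQ.comp (LinearMap.inl k _ _)).comp ((TensorProduct.mk k A A).flip 1)
  have hid : ∀ p q, W.mkQ (p, q) - (2 : k)⁻¹ • Φ (ψ (p, q)) =
      e (LinearMap.mul' k A p) - e (LinearMap.mul' k A q) := by
    intro p q
    have h1 : (W.mkQ.comp (LinearMap.inl k _ _)) - (2 : k)⁻¹ • (Φ.comp (ψ.comp (LinearMap.inl k _ _))) =
        e.comp (LinearMap.mul' k A) := by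
      apply TensorProduct.ext'
      intro a u
      simp only [LinearMap.sub_apply, LinearMap.smul_apply, LinearMap.comp_apply, LinearMap.inl_apply]
      have h := hψ a u 0 1
      rw [TensorProduct.zero_tmul, map_zero, smul_zero, sub_zero] at h
      rw [h, two_smul A, map_add, hΦ, hφ]
      simp only [e, LinearMap.comp_apply, LinearMap.inl_apply, LinearMap.mul'_apply,
        LinearMap.flip_apply, TensorProduct.mk_apply]
      rw [← two_smul k, smul_smul, inv_mul_cancel₀ two_ne_zero, one_smul, ← map_sub]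
      congr 1
      refine Prod.ext ?_ ?_ <;> simp
    have h2 : (W.mkQ.comp (LinearMap.inr k _ _)) - (2 : k)⁻¹ • (Φ.comp (ψ.comp (LinearMap.inr k _ _))) =
        - e.comp (LinearMap.mul' k A) := by
      apply TensorProduct.ext'
      intro b v
      simp only [LinearMap.sub_apply, LinearMap.smul_apply, LinearMap.comp_apply, LinearMap.inr_apply]
      have h := hψ 0 1 b v
      rw [TensorProduct.zero_tmul, zero_smul, smul_zero, zero_sub] at h
      rw [h, map_neg, hΦ, hφ]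
      simp only [e, LinearMap.neg_apply, LinearMap.comp_apply, LinearMap.inl_apply,
        LinearMap.mul'_apply, LinearMap.flip_apply, TensorProduct.mk_apply, smul_neg, sub_neg_eq_add]
      rw [← map_smul, ← map_add, ← map_neg]
      refine (Submodule.Quotient.eq W).mpr ?_
      have h' := W.smul_mem (2 : k)⁻¹ (hT v b 1)
      convert h' using 1
      refine Prod.ext ?_ ?_
      · simp only [Prod.fst_sub, Prod.fst_add, Prod.smul_fst, Prod.fst_neg, mul_one, mul_comm b v]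
        match_scalars <;> field_simp <;> ring
      · simp only [Prod.snd_sub, Prod.snd_add, Prod.smul_snd, Prod.snd_neg, mul_one]
        match_scalars <;> field_simp <;> ring
    have e1 := LinearMap.congr_fun h1 p
    have e2 := LinearMap.congr_fun h2 q
    simp only [LinearMap.sub_apply, LinearMap.smul_apply, LinearMap.comp_apply, LinearMap.inl_apply,
      LinearMap.inr_apply, LinearMap.neg_apply] at e1 e2
    rw [show ((p, q) : (A ⊗[k] A) × (A ⊗[k] A)) = (p, 0) + (0, q) by simp, map_add, map_add,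
      map_add, smul_add, sub_eq_add_neg (e _) (e _), ← e1, ← e2]
    abel
  refine ⟨fun p q hpq => ⟨fun h => ?_, ?_⟩, fun ω => ?_⟩
  · have := hid p q
    rw [h, map_zero, smul_zero, sub_zero, hpq, sub_self] at this
    obtain ⟨x, hx, hR⟩ := (Submodule.Quotient.mk_eq_zero W).mp this
    exact ⟨x, hx, congrArg Prod.fst hR, congrArg Prod.snd hR⟩
  · rintro ⟨x, hx, rfl, rfl⟩
    have h0 : (ψ.comp R).comp (LinearMap.id + s) = 0 := by
      apply TensorProduct.ext'
      intro a z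
      induction z with
      | tmul u v =>
        have hR : ∀ a u v : A, R (a ⊗ₜ[k] (u ⊗ₜ[k] v)) =
            ((a * u) ⊗ₜ[k] v, (u * v) ⊗ₜ[k] a) := fun a u v => Prod.ext (h₁₂ a u v) (h₂₃ a u v)
        simp only [LinearMap.comp_apply, LinearMap.add_apply, LinearMap.id_apply, s,
          LinearMap.lTensor_tmul, LinearEquiv.coe_coe, TensorProduct.comm_tmul, map_add, hR,
          hψ, LinearMap.zero_apply, Derivation.leibniz]
        module
      | add x y hx hy => rw [TensorProduct.tmul_add, map_add, hx, hy]; simp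
      | zero => simp
    have h1 := LinearMap.congr_fun h0 x
    simp only [LinearMap.comp_apply, LinearMap.add_apply, LinearMap.id_apply,
      show s x = x from hx, LinearMap.zero_apply, map_add] at h1
    change ψ (R x) = 0
    rw [← two_smul k] at h1
    exact (smul_eq_zero.mp h1).resolve_left two_ne_zero
  · have hω : ω ∈ Submodule.span A (Set.range δ) := by
      rw [KaehlerDifferential.span_range_derivation]; trivial
    let P := LinearMap.ker ((LinearMap.mul' k A).comp (LinearMap.fst k _ _) -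
      (LinearMap.mul' k A).comp (LinearMap.snd k (A ⊗[k] A) (A ⊗[k] A)))
    suffices h : ∀ a : A, a • ω ∈ P.map ψ by
      obtain ⟨⟨p, q⟩, hpq, h'⟩ := h 1
      rw [one_smul] at h'
      exact ⟨p, q, sub_eq_zero.mp hpq, h'⟩
    induction hω using Submodule.span_induction with
    | mem z hz =>
      obtain ⟨b, rfl⟩ := hz
      intro a
      refine ⟨(2 : k)⁻¹ • (a ⊗ₜ[k] b - (a * b) ⊗ₜ[k] (1 : A), 0), ?_, ?_⟩
      · exact P.smul_mem _ (by simp [P])
      · have h := hψ a b 0 1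
        rw [TensorProduct.zero_tmul, map_zero, smul_zero, sub_zero] at h
        have h' := hψ (a * b) 1 0 1
        rw [TensorProduct.zero_tmul, map_zero, smul_zero, Derivation.map_one_eq_zero, smul_zero,
          smul_zero, sub_zero] at h'
        rw [map_smul, show ((a ⊗ₜ[k] b - (a * b) ⊗ₜ[k] (1 : A), 0) : (A ⊗[k] A) × (A ⊗[k] A)) =
          (a ⊗ₜ[k] b, 0) - ((a * b) ⊗ₜ[k] (1 : A), 0) by simp, map_sub, h, h', sub_zero,
          two_smul A, ← two_smul k, smul_smul, inv_mul_cancel₀ two_ne_zero, one_smul]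
    | zero => intro a; simp
    | add z w _ _ hz hw => intro a; rw [smul_add]; exact add_mem (hz a) (hw a)
    | smul c z _ hz => intro a; rw [smul_smul]; exact hz _

end Groth.Agent.DiagIdeal
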