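import Groth.Agent.DiagIdeal.Three
import Groth.Agent.LocH.Annihilator
import Groth.Agent.RegIdeal.Quasi
import Groth.Agent.GeomConn.Basic

/-! Diagonal ideals of tensor powers of a smooth domain are primes whose powers are primary. -/

set_option autoImplicit false

universe u

open scoped TensorProduct

namespace Groth.Agent.DiagIdeal

section Ring

variable {k : Type u} [Field k] {A : Type u} [CommRing A] [Algebra k A] {n : ℕ}

theorem finiteType_pow [Algebra.FiniteType k A] : Algebra.FiniteType k (⨂[k] _ : Fin n, A) := by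
  classical
  obtain ⟨s, hs⟩ := (Algebra.FiniteType.out : (⊤ : Subalgebra k A).FG)
  let t : Finset (⨂[k] _ : Fin n, A) := Finset.univ.biUnion fun i => s.image (sgl k A i)
  refine ⟨⟨t, eq_top_iff.2 fun x _ => ?_⟩⟩
  have hsgl : ∀ i a, sgl k A i a ∈ Algebra.adjoin k (t : Set (⨂[k] _ : Fin n, A)) := by
    intro i a
    have h : a ∈ Algebra.adjoin k (s : Set A) := by rw [hs]; trivial
    have h' : sgl k A i a ∈ (Algebra.adjoin k (s : Set A)).map (sgl k A i) := ⟨a, h, rfl⟩
    rw [AlgHom.map_adjoin] at h'
    refine Algebra.adjoin_mono ?_ h'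
    rintro _ ⟨b, hb, rfl⟩
    exact Finset.mem_coe.2 (Finset.mem_biUnion.2 ⟨i, Finset.mem_univ _, Finset.mem_image_of_mem _ hb⟩)
  induction x using PiTensorProduct.induction_on with
  | smul_tprod r f =>
    rw [tprod_eq_prod]
    exact Subalgebra.smul_mem _ (Subalgebra.prod_mem _ fun i _ => hsgl i _) r
  | add x y hx hy => exact add_mem (hx trivial) (hy trivial)

instance smooth_pow [Algebra.Smooth k A] : Algebra.Smooth k (⨂[k] _ : Fin n, A) := by
  haveI : Algebra.FormallySmooth k (⨂[k] _ : Fin n, A) := Algebra.FormallySmooth.of_comp_surjective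
    fun B _ _ I hI f => by
      choose g hg using fun i => Algebra.FormallySmooth.comp_surjective k A I hI (f.comp (sgl k A i))
      refine ⟨piLift g, PiTensorProduct.algHom_ext fun i => AlgHom.ext fun a => ?_⟩
      show Ideal.Quotient.mkₐ k I (piLift g (sgl k A i a)) = f (sgl k A i a)
      rw [piLift_sgl]
      exact AlgHom.congr_fun (hg i) a
  haveI : Algebra.FinitePresentation k (⨂[k] _ : Fin n, A) :=
    Algebra.FinitePresentation.of_finiteType.1 finiteType_pow
  exact ⟨‹_›, ‹_›⟩

theorem isDomain_tensor_domain [IsAlgClosed k] (B C : Type u) [CommRing B] [Algebra k B] [IsDomain B]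
    [Algebra.FiniteType k B] [CommRing C] [Algebra k C] [IsDomain C] : IsDomain (B ⊗[k] C) := by
  haveI : IsDomain (B ⊗[k] FractionRing C) := GeomConn.isDomain_tensor_fg
  exact Function.Injective.isDomain
    (Algebra.TensorProduct.map (AlgHom.id k B) (IsScalarTower.toAlgHom k C (FractionRing C))).toRingHom
    (Module.Flat.lTensor_preserves_injective_linearMap (M := B)
      (IsScalarTower.toAlgHom k C (FractionRing C)).toLinearMap (IsFractionRing.injective C (FractionRing C)))

theorem isDomain_pow [IsAlgClosed k] [IsDomain A] [Algebra.FiniteType k A] :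
    ∀ n : ℕ, IsDomain (⨂[k] _ : Fin n, A)
  | 0 => by
        let φ : (⨂[k] _ : Fin 0, A) →ₐ[k] k := piLift (fun i => i.elim0)
        refine Function.Injective.isDomain φ.toRingHom ?_
        have h : (Algebra.ofId k (⨂[k] _ : Fin 0, A)).comp φ = AlgHom.id k _ :=
          PiTensorProduct.algHom_ext fun i => i.elim0
        exact Function.LeftInverse.injective (g := Algebra.ofId k (⨂[k] _ : Fin 0, A))
          fun x => AlgHom.congr_fun h x
  | n + 1 => by
    haveI := isDomain_pow n
    haveI := isDomain_tensor_domain (k := k) A (⨂[k] _ : Fin n, A)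
    let φ : (⨂[k] _ : Fin (n + 1), A) →ₐ[k] A ⊗[k] (⨂[k] _ : Fin n, A) :=
      piLift (Fin.cases Algebra.TensorProduct.includeLeft
        fun i => Algebra.TensorProduct.includeRight.comp (sgl k A i))
    let ψ : A ⊗[k] (⨂[k] _ : Fin n, A) →ₐ[k] ⨂[k] _ : Fin (n + 1), A :=
      Algebra.TensorProduct.lift (sgl k A 0) (piLift fun i => sgl k A i.succ) fun _ _ => Commute.all _ _
    refine Function.Injective.isDomain φ.toRingHom ?_
    have h : ψ.comp φ = AlgHom.id k _ := PiTensorProduct.algHom_ext fun i => AlgHom.ext fun a => by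
      show ψ (φ (sgl k A i a)) = sgl k A i a
      simp only [φ, piLift_sgl]
      induction i using Fin.cases with
      | zero => simp [ψ]
      | succ i => simp [ψ, piLift_sgl]
    exact Function.LeftInverse.injective (g := ψ) fun x => AlgHom.congr_fun h x

/-- The retraction of a tensor power onto a diagonal. -/
noncomputable def collapse (i j : Fin n) : (⨂[k] _ : Fin n, A) →ₐ[k] ⨂[k] _ : Fin n, A :=
  piLift fun l => sgl k A (if l = j then i else l)

theorem sub_collapse_mem (i j : Fin n) (x : ⨂[k] _ : Fin n, A) : x - collapse i j x ∈ diag k A i j :=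
  sub_mem_diag_of_congr i j (fun l => if l = j then i else l) (fun l => by
    by_cases h : l = j
    · exact Or.inr (Or.inr ⟨h, if_pos h⟩)
    · exact Or.inl (if_neg h)) x

theorem ker_collapse (i j : Fin n) :
    RingHom.ker (collapse (k := k) (A := A) i j).toRingHom = diag k A i j := by
  refine le_antisymm (fun x hx => ?_) (Ideal.span_le.2 ?_)
  · have := sub_collapse_mem i j x
    rwa [show collapse i j x = 0 from hx, sub_zero] at this
  · rintro _ ⟨a, rfl⟩
    show collapse i j (sgl k A i a - sgl k A j a) = 0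
    simp [collapse, piLift_sgl]

theorem isPrime_diag [IsAlgClosed k] [IsDomain A] [Algebra.FiniteType k A] (i j : Fin n) :
    (diag k A i j).IsPrime := by
  haveI := isDomain_pow (k := k) (A := A) n
  rw [← ker_collapse]
  exact RingHom.ker_isPrime _

theorem smooth_quotient [Algebra.Smooth k A] (i j : Fin n) :
    Algebra.Smooth k ((⨂[k] _ : Fin n, A) ⧸ diag k A i j) := by
  let s : ((⨂[k] _ : Fin n, A) ⧸ diag k A i j) →ₐ[k] ⨂[k] _ : Fin n, A :=
    Ideal.Quotient.liftₐ _ (collapse i j) fun x hx => by
      rw [← ker_collapse] at hx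
      exact hx
  haveI : Algebra.FormallySmooth k ((⨂[k] _ : Fin n, A) ⧸ diag k A i j) :=
    Algebra.FormallySmooth.of_comp_surjective fun B _ _ I hI f => by
      obtain ⟨g, hg⟩ := Algebra.FormallySmooth.comp_surjective k (⨂[k] _ : Fin n, A) I hI
        (f.comp (Ideal.Quotient.mkₐ k (diag k A i j)))
      refine ⟨g.comp s, AlgHom.ext fun q => ?_⟩
      obtain ⟨x, rfl⟩ := Ideal.Quotient.mk_surjective q
      show Ideal.Quotient.mkₐ k I (g (collapse i j x)) = f (Ideal.Quotient.mk _ x)
      refine (AlgHom.congr_fun hg _).trans (congrArg f (Ideal.Quotient.eq.2 ?_))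
      rw [← neg_sub]
      exact neg_mem (sub_collapse_mem i j x)
  haveI : Algebra.FiniteType k ((⨂[k] _ : Fin n, A) ⧸ diag k A i j) :=
    Algebra.FiniteType.of_surjective (Ideal.Quotient.mkₐ k (diag k A i j)) Ideal.Quotient.mk_surjective
  haveI : Algebra.FinitePresentation k ((⨂[k] _ : Fin n, A) ⧸ diag k A i j) :=
    Algebra.FinitePresentation.of_finiteType.1 ‹_›
  exact ⟨‹_›, ‹_›⟩

end Ring

/-- Powers of a prime with regular quotient in a regular ring are primary. -/
theorem mem_pow_of_mul_mem {C : Type u} [CommRing C] [IsRegularRing C] (P : Ideal C) [P.IsPrime]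
    [IsRegularRing (C ⧸ P)] {z x : C} (hz : z ∉ P) {m : ℕ} (h : z * x ∈ P ^ m) : x ∈ P ^ m := by
  refine Submodule.mem_of_localization_maximal (fun Q _ => Localization.AtPrime Q)
    (fun Q _ => Algebra.linearMap C (Localization.AtPrime Q)) x (P ^ m) fun Q hQ => ?_
  rw [Ideal.localized₀_eq_restrictScalars_map]
  let L := Localization.AtPrime Q
  show algebraMap C L x ∈ (P ^ m).map (algebraMap C L)
  rw [Ideal.map_pow]
  by_cases hPQ : P ≤ Q
  swap
  · obtain ⟨c, hcP, hcQ⟩ := SetLike.not_le_iff_exists.1 hPQ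
    rw [Ideal.eq_top_of_isUnit_mem _ (Ideal.mem_map_of_mem _ hcP)
      (IsLocalization.map_units L (⟨c, hcQ⟩ : Q.primeCompl)), Ideal.top_pow]
    trivial
  have hd : Disjoint (Q.primeCompl : Set C) P :=
    Set.disjoint_left.2 fun c hc hcP => hc (hPQ hcP)
  haveI : IsRegularLocalRing L := isRegularRing_iff.1 inferInstance Q
  have hn : P.map (algebraMap C L) ≠ ⊤ :=
    (IsLocalization.isPrime_of_isPrime_disjoint Q.primeCompl L P inferInstance hd).ne_top
  haveI : IsRegularRing (L ⧸ P.map (algebraMap C L)) :=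
    GeomProp.isRegularRing_of_isLocalization (R := C ⧸ P) (Algebra.algebraMapSubmonoid (C ⧸ P) Q.primeCompl)
      inferInstance
  obtain ⟨r, b, hb, hw⟩ := CotT.exists_wreg_generators (P.map (algebraMap C L)) hn
  rw [← hb]
  refine RegIdeal.smul_regular_mod_pow (RegIdeal.isQuasiRegular_of_wReg hw) (x := algebraMap C L z) ?_ m _ ?_
  · rw [hb]
    intro y hy
    refine ((IsLocalization.isPrime_of_isPrime_disjoint Q.primeCompl L P inferInstance hd).mem_or_mem hy).resolve_left
      fun hmem => hz ?_
    rw [← IsLocalization.under_map_of_isPrime_disjoint Q.primeCompl L inferInstance hd]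
    exact hmem
  · rw [hb, ← Ideal.map_pow, ← map_mul]
    exact Ideal.mem_map_of_mem _ h

/-- An element outside the scalars separates two inclusions. -/
theorem sgl_ne {k : Type u} [Field k] {A : Type u} [CommRing A] [Algebra k A] {n : ℕ}
    {a : A} (ha : a ∉ Set.range (algebraMap k A)) {i j : Fin n} (hij : i ≠ j) :
    sgl k A i a ≠ sgl k A j a := by
  intro h
  let g : Fin n → (A →ₐ[k] A ⊗[k] A) := fun l =>
    if l = i then Algebra.TensorProduct.includeLeft else Algebra.TensorProduct.includeRight
  have h' : a ⊗ₜ[k] (1 : A) = (1 : A) ⊗ₜ[k] a := by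
    simpa [g, piLift_sgl, hij.symm] using congrArg (piLift g) h
  have hmem : a ∉ Submodule.span k ({(1 : A)} : Set A) := fun hm => by
    obtain ⟨c, hc⟩ := Submodule.mem_span_singleton.1 hm
    exact ha ⟨c, by rw [Algebra.algebraMap_eq_smul_one, hc]⟩
  obtain ⟨f, hfa, hf1⟩ := Submodule.exists_dual_map_eq_bot_of_notMem hmem inferInstance
  have h1 : f 1 = 0 := by
    have : f 1 ∈ (Submodule.span k ({(1 : A)} : Set A)).map f :=
      Submodule.mem_map_of_mem (Submodule.subset_span rfl)
    simpa [hf1] using this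
  have := congrArg (TensorProduct.lift ((LinearMap.lsmul k A).comp f)) h'
  simp [h1] at this
  exact hfa (this.resolve_right fun h0 => ha ⟨0, by rw [map_zero]; exact (eq_zero_of_zero_eq_one h0.symm a).symm⟩)

theorem exists_notMem_range {k : Type u} [Field k] {A : Type u} [CommRing A] [Algebra k A]
    (h : ringKrullDim A ≠ 0) [Nontrivial A] : ∃ a : A, a ∉ Set.range (algebraMap k A) := by
  by_contra hc
  simp only [not_exists, not_not] at hc
  exact h ((ringKrullDim_eq_of_ringEquiv (RingEquiv.ofBijective (algebraMap k A)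
    ⟨(algebraMap k A).injective, hc⟩)).symm.trans (ringKrullDim_eq_zero_of_field k))

theorem eq_of_diag_le {k : Type u} [Field k] {A : Type u} [CommRing A] [Algebra k A] {n : ℕ}
    {a : A} (ha : a ∉ Set.range (algebraMap k A)) {p q : Fin n × Fin n} (hp : p.1 < p.2) (hq : q.1 < q.2)
    (h : diag k A q.1 q.2 ≤ diag k A p.1 p.2) : q = p := by
  have h' := h (sub_mem_diag q.1 q.2 a)
  rw [← ker_collapse] at h'
  have h'' : collapse p.1 p.2 (sgl k A q.1 a) = collapse p.1 p.2 (sgl k A q.2 a) :=
    sub_eq_zero.1 (by rw [← map_sub]; exact h')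
  simp only [collapse, piLift_sgl] at h''
  have : (if q.1 = p.2 then p.1 else q.1) = if q.2 = p.2 then p.1 else q.2 :=
    by_contra fun hne => sgl_ne ha hne h''
  obtain ⟨p1, p2⟩ := p
  obtain ⟨q1, q2⟩ := q
  simp only [Prod.mk.injEq] at hp hq this ⊢
  split_ifs at this <;> subst_vars <;> first
    | exact ⟨rfl, rfl⟩
    | omega
    | exact absurd hq (lt_irrefl _)
    | exact absurd (hp.trans hq) (lt_irrefl _)

end Groth.Agent.DiagIdeal
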