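import Mathlib

/-! Symmetric bilinear maps on an ideal locally generated by a regular sequence factor through the square. -/

set_option autoImplicit false

universe u v

namespace Groth.Agent.DiagIdeal

variable {C : Type u} [CommRing C] {T : Type v} [AddCommGroup T] [Module C T]

section

variable {J : Ideal C} (B : J →ₗ[C] J →ₗ[C] T)

/-- A bilinear map paired with the product. -/
def pairMul : J →ₗ[C] J →ₗ[C] T × C :=
  LinearMap.mk₂ C (fun x y => (B x y, (x : C) * y))
    (fun x x' y => Prod.ext (B.map_add₂ x x' y) (add_mul _ _ _))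
    (fun c x y => Prod.ext (B.map_smul₂ c x y) (mul_assoc _ _ _))
    (fun x y y' => Prod.ext ((B x).map_add y y') (mul_add _ _ _))
    (fun c x y => Prod.ext ((B x).map_smul c y) (mul_left_comm _ _ _))

/-- The span of the values of `pairMul` on the first `m` terms of a sequence. -/
def pairSpan {n : ℕ} (f : Fin n → J) (m : ℕ) : Submodule C (T × C) :=
  Submodule.span C {w | ∃ i j : Fin n, (i : ℕ) < m ∧ (j : ℕ) < m ∧ pairMul B (f i) (f j) = w}

variable (hsymm : ∀ x y, B x y = B y x) (p : Submonoid C) {n : ℕ} (f : Fin n → J)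
  (hreg : ∀ (m : Fin n) (y : C), (f m : C) * y ∈ Ideal.span ((fun i => (f i : C)) '' Set.Iio m) ^ 2 →
    ∃ c ∈ p, c * y ∈ Ideal.span ((fun i => (f i : C)) '' Set.Iio m) ^ 2)

include hsymm hreg in
theorem exists_smul_eq_zero : ∀ m ≤ n, ∀ w ∈ pairSpan B f m, w.2 = 0 → ∃ c ∈ p, c • w.1 = 0 := by
  have hQ : ∀ x y, pairMul B x y = pairMul B y x := fun x y => Prod.ext (hsymm x y) (mul_comm _ _)
  intro m
  induction m with
  | zero =>
    intro _ w hw _
    have : pairSpan B f 0 = ⊥ := Submodule.span_eq_bot.2 fun w ⟨i, j, hi, _⟩ => absurd hi (Nat.not_lt_zero _)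
    rw [this, Submodule.mem_bot] at hw
    exact ⟨1, p.one_mem, by simp [hw]⟩
  | succ m ih =>
    intro hm w hw hw2
    let fm : Fin n := ⟨m, hm⟩
    have hdec : ∀ w ∈ pairSpan B f (m + 1), ∃ (u : T × C) (y : J), u ∈ pairSpan B f m ∧
        w = u + pairMul B (f fm) y := by
      intro w hw
      refine Submodule.span_induction ?_ ⟨0, 0, zero_mem _, by simp⟩ ?_ ?_ hw
      · rintro _ ⟨i, j, hi, hj, rfl⟩
        rcases Nat.lt_succ_iff_lt_or_eq.1 hi with hi' | hi'
        · rcases Nat.lt_succ_iff_lt_or_eq.1 hj with hj' | hj'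
          · exact ⟨_, 0, Submodule.subset_span ⟨i, j, hi', hj', rfl⟩, by simp⟩
          · exact ⟨0, f i, zero_mem _, by rw [zero_add, hQ, show fm = j from Fin.ext hj'.symm]⟩
        · exact ⟨0, f j, zero_mem _, by rw [zero_add, show fm = i from Fin.ext hi'.symm]⟩
      · rintro _ _ _ _ ⟨u, y, hu, rfl⟩ ⟨u', y', hu', rfl⟩
        exact ⟨u + u', y + y', add_mem hu hu', by rw [map_add]; abel⟩
      · rintro c _ _ ⟨u, y, hu, rfl⟩
        exact ⟨c • u, c • y, Submodule.smul_mem _ c hu, by rw [map_smul, smul_add]⟩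
    obtain ⟨u, y, hu, rfl⟩ := hdec w hw
    let S : Set C := (fun i => (f i : C)) '' Set.Iio fm
    have hu2 : u.2 ∈ Ideal.span S ^ 2 := by
      refine Submodule.span_induction ?_ (zero_mem _) (fun a b _ _ ha hb => ?_) (fun c a _ ha => ?_) hu
      · rintro _ ⟨i, j, hi, hj, rfl⟩
        rw [sq]
        exact Ideal.mul_mem_mul (Ideal.subset_span ⟨i, hi, rfl⟩) (Ideal.subset_span ⟨j, hj, rfl⟩)
      · exact add_mem ha hb
      · exact Ideal.mul_mem_left _ c ha
    have hy : (f fm : C) * y ∈ Ideal.span S ^ 2 := by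
      have h0 : u.2 + (f fm : C) * y = 0 := hw2
      rw [eq_neg_of_add_eq_zero_right h0]
      exact neg_mem hu2
    obtain ⟨c, hc, hcy⟩ := hreg fm y hy
    have key : ∀ z ∈ Ideal.span S ^ 2, ∃ h : z ∈ J, pairMul B (f fm) ⟨z, h⟩ ∈ pairSpan B f m := by
      intro z hz
      rw [sq, Ideal.span_mul_span'] at hz
      refine Submodule.span_induction ?_ ⟨zero_mem _, by simp [show (⟨0, J.zero_mem⟩ : J) = 0 from rfl]⟩ ?_ ?_ hz
      · rintro _ ⟨_, ⟨i, hi, rfl⟩, _, ⟨j, hj, rfl⟩, rfl⟩
        refine ⟨J.mul_mem_right _ (f i).2, ?_⟩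
        have e : (⟨(f i : C) * (f j : C), J.mul_mem_right _ (f i).2⟩ : J) = (f i : C) • f j := rfl
        have e' : (f i : C) • f fm = (f fm : C) • f i := Subtype.ext (mul_comm _ _)
        rw [e, map_smul, ← LinearMap.smul_apply, ← map_smul, e', map_smul, LinearMap.smul_apply]
        exact Submodule.smul_mem _ _ (Submodule.subset_span ⟨i, j, hi, hj, rfl⟩)
      · rintro a b _ _ ⟨ha, ha'⟩ ⟨hb, hb'⟩
        refine ⟨add_mem ha hb, ?_⟩
        rw [show (⟨a + b, add_mem ha hb⟩ : J) = ⟨a, ha⟩ + ⟨b, hb⟩ from rfl, map_add]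
        exact add_mem ha' hb'
      · rintro r a _ ⟨ha, ha'⟩
        refine ⟨J.mul_mem_left r ha, ?_⟩
        rw [show (⟨r • a, J.mul_mem_left r ha⟩ : J) = r • ⟨a, ha⟩ from rfl, map_smul]
        exact Submodule.smul_mem _ r ha'
    obtain ⟨_, hmem⟩ := key _ hcy
    have hmem' : c • (u + pairMul B (f fm) y) ∈ pairSpan B f m := by
      rw [smul_add, ← map_smul]
      exact add_mem (Submodule.smul_mem _ c hu) hmem
    obtain ⟨c', hc', h⟩ := ih (Nat.le_of_succ_le hm) _ hmem' (by rw [Prod.smul_snd, hw2, smul_zero])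
    exact ⟨c' * c, p.mul_mem hc' hc, by rw [mul_smul]; exact h⟩

end

/-- A symmetric bilinear map on a locally regularly generated ideal vanishes on relations of products. -/
theorem fst_eq_zero_of_locally_regular {J : Ideal C} (B : J →ₗ[C] J →ₗ[C] T) (hsymm : ∀ x y, B x y = B y x)
    (hloc : ∀ P : Ideal C, P.IsMaximal → ∃ (n : ℕ) (f : Fin n → J),
      (∀ x ∈ J, ∃ c ∉ P, c * x ∈ Ideal.span (Set.range fun i => (f i : C))) ∧
      ∀ (m : Fin n) (y : C), (f m : C) * y ∈ Ideal.span ((fun i => (f i : C)) '' Set.Iio m) ^ 2 →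
        ∃ c ∉ P, c * y ∈ Ideal.span ((fun i => (f i : C)) '' Set.Iio m) ^ 2)
    (w : T × C) (hw : w ∈ Submodule.span C {w | ∃ x y, pairMul B x y = w}) (hw2 : w.2 = 0) : w.1 = 0 := by
  by_contra hne
  let ann : Ideal C := (Submodule.span C {w.1}).annihilator
  have hann : ann ≠ ⊤ := fun h => hne (by
    have h1 : (1 : C) ∈ ann := h ▸ Submodule.mem_top
    simpa using (Submodule.mem_annihilator_span_singleton _ _).1 h1)
  obtain ⟨P, hP, hle⟩ := Ideal.exists_le_maximal ann hann
  haveI := hP.isPrime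
  obtain ⟨n, f, hgen, hreg⟩ := hloc P hP
  have hmul : ∀ x : J, ∃ c ∉ P, c • x ∈ Submodule.span C (Set.range f) := by
    intro x
    obtain ⟨c, hc, hx⟩ := hgen x x.2
    refine ⟨c, hc, ?_⟩
    rw [← Submodule.apply_mem_span_image_iff_mem_span (f := J.subtype) J.injective_subtype, ← Set.range_comp]
    exact hx
  have hall : ∃ c ∉ P, c • w ∈ pairSpan B f n := by
    refine Submodule.span_induction ?_ ⟨1, P.primeCompl.one_mem, by rw [smul_zero]; exact zero_mem _⟩ ?_ ?_ hw
    · rintro _ ⟨x, y, rfl⟩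
      obtain ⟨c, hc, hx⟩ := hmul x
      obtain ⟨d, hd, hy⟩ := hmul y
      refine ⟨c * d, P.primeCompl.mul_mem hc hd, ?_⟩
      rw [mul_smul, ← map_smul, ← LinearMap.smul_apply, ← map_smul]
      refine Submodule.span_induction ?_ ?_ ?_ ?_ hx
      · rintro _ ⟨i, rfl⟩
        refine Submodule.span_induction ?_ ?_ ?_ ?_ hy
        · rintro _ ⟨j, rfl⟩
          exact Submodule.subset_span ⟨i, j, i.2, j.2, rfl⟩
        · rw [map_zero]; exact zero_mem _
        · intro a b _ _ ha hb; rw [map_add]; exact add_mem ha hb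
        · intro r a _ ha; rw [map_smul]; exact Submodule.smul_mem _ r ha
      · rw [map_zero]; exact zero_mem _
      · intro a b _ _ ha hb; rw [LinearMap.map_add₂]; exact add_mem ha hb
      · intro r a _ ha; rw [LinearMap.map_smul₂]; exact Submodule.smul_mem _ r ha
    · rintro a b _ _ ⟨c, hc, ha⟩ ⟨d, hd, hb⟩
      refine ⟨c * d, P.primeCompl.mul_mem hc hd, ?_⟩
      rw [smul_add]
      exact add_mem (by rw [mul_comm, mul_smul]; exact Submodule.smul_mem _ d ha)
        (by rw [mul_smul]; exact Submodule.smul_mem _ c hb)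
    · rintro r a _ ⟨c, hc, ha⟩
      exact ⟨c, hc, by rw [smul_comm]; exact Submodule.smul_mem _ r ha⟩
  obtain ⟨c, hc, hcw⟩ := hall
  obtain ⟨d, hd, h⟩ := exists_smul_eq_zero B hsymm P.primeCompl f hreg n le_rfl _ hcw
    (by rw [Prod.smul_snd, hw2, smul_zero])
  rw [Prod.smul_fst, ← mul_smul] at h
  exact P.primeCompl.mul_mem hd hc (hle ((Submodule.mem_annihilator_span_singleton _ _).2 h))

/-- A weakly regular sequence stays regular modulo the square of the ideal of the previous terms. -/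
theorem mem_sq_of_mul_mem {L : Type*} [CommRing L] : ∀ {r : ℕ} (b : Fin r → L),
    (∀ i x, b i * x ∈ Ideal.span (b '' Set.Iio i) → x ∈ Ideal.span (b '' Set.Iio i)) →
    (∀ a : Fin r → L, ∑ i, a i * b i ∈ Ideal.span (Set.range b) ^ 2 → ∀ i, a i ∈ Ideal.span (Set.range b)) := by
  intro r
  induction r with
  | zero => exact fun _ _ _ _ i => i.elim0
  | succ r ih =>
    intro b hb a ha
    let b' : Fin r → L := b ∘ Fin.castSucc
    have himg : b '' Set.Iio (Fin.last r) = Set.range b' := by
      ext z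
      constructor
      · rintro ⟨i, hi, rfl⟩
        exact ⟨i.castLT hi, by simp [b']⟩
      · rintro ⟨i, rfl⟩
        exact ⟨i.castSucc, Fin.castSucc_lt_last i, rfl⟩
    have hb' : ∀ i x, b' i * x ∈ Ideal.span (b' '' Set.Iio i) → x ∈ Ideal.span (b' '' Set.Iio i) := by
      intro i x hx
      have e : b '' Set.Iio i.castSucc = b' '' Set.Iio i := by
        rw [show b' '' Set.Iio i = b '' (Fin.castSucc '' Set.Iio i) from Set.image_comp _ _ _,
          Fin.image_castSucc_Iio]
      rw [← e] at hx ⊢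
      exact hb i.castSucc x hx
    let F := Ideal.span (Set.range b')
    have hF : F ≤ Ideal.span (Set.range b) := Ideal.span_mono (Set.range_comp_subset_range _ _)
    rw [sq, ← smul_eq_mul, Submodule.mem_ideal_smul_span_iff_exists_sum] at ha
    obtain ⟨q₀, hq, hqs⟩ := ha
    rw [Finsupp.sum_fintype (M := L) (N := L) _ _ (fun i => zero_smul L (b i))] at hqs
    let q : Fin (r + 1) → L := q₀
    have hqs : ∑ i, q i * b i = ∑ i, a i * b i := by simpa [q] using hqs
    suffices h : ∀ i, a i - q i ∈ Ideal.span (Set.range b) from fun i => by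
      have := add_mem (h i) (hq i)
      rwa [sub_add_cancel] at this
    have h0 : ∑ i, (a i - q i) * b i = 0 := by
      simp only [sub_mul, Finset.sum_sub_distrib, hqs, sub_self]
    rw [Fin.sum_univ_castSucc] at h0
    have hlast : a (Fin.last r) - q (Fin.last r) ∈ F := by
      have : b (Fin.last r) * (a (Fin.last r) - q (Fin.last r)) ∈ F := by
        rw [mul_comm, eq_neg_of_add_eq_zero_right h0]
        exact neg_mem (sum_mem fun i _ => Ideal.mul_mem_left _ _ (Ideal.subset_span ⟨i, rfl⟩))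
      have := hb (Fin.last r) (a (Fin.last r) - q (Fin.last r))
      rw [himg] at this
      exact this ‹_›
    obtain ⟨d, hd⟩ := Ideal.mem_span_range_iff_exists_fun.1 hlast
    have h1 := ih b' hb' (fun i => (a i.castSucc - q i.castSucc) + d i * b (Fin.last r)) (by
      have hsum : ∑ i, ((a i.castSucc - q i.castSucc) + d i * b (Fin.last r)) * b' i = 0 := by
        rw [← h0, ← hd, Finset.sum_mul, ← Finset.sum_add_distrib]
        exact Finset.sum_congr rfl fun i _ => by simp only [b', Function.comp]; ring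
      rw [hsum]
      exact zero_mem _)
    intro i
    cases i using Fin.lastCases with
    | last => exact hF hlast
    | cast i =>
      have := sub_mem (hF (h1 i)) (Ideal.mul_mem_left _ (d i) (Ideal.subset_span (Set.mem_range_self (Fin.last r))))
      rwa [add_sub_cancel_right] at this

end Groth.Agent.DiagIdeal
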