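import Groth.Agent.DiagIdeal.SymSq
import Groth.Agent.CotT.RegQuot
import Groth.Agent.GeomProp.SmoothReg
import Groth.Agent.GeomProp.RegLocal

/-! Symmetric elements of the three diagonal ideals of a triple tensor power. -/

set_option autoImplicit false

universe u v

open scoped TensorProduct
open PiTensorProduct (singleAlgHom)

namespace Groth.Agent.DiagIdeal

section Hom

variable {k : Type u} [Field k] {A : Type v} [CommRing A] [Algebra k A]

variable (k A) in
/-- The `i`-th inclusion. -/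
noncomputable def sgl {n : ℕ} (i : Fin n) : A →ₐ[k] ⨂[k] _ : Fin n, A :=
  singleAlgHom (R := k) (A := fun _ : Fin n => A) i

/-- The algebra map out of a tensor power given on the factors. -/
noncomputable def piLift {n : ℕ} {S : Type*} [CommRing S] [Algebra k S] (g : Fin n → (A →ₐ[k] S)) :
    (⨂[k] _ : Fin n, A) →ₐ[k] S :=
  PiTensorProduct.liftAlgHom ((MultilinearMap.mkPiAlgebra k (Fin n) S).compLinearMap fun i => (g i).toLinearMap)
    (by simp) (fun x y => by simp [Finset.prod_mul_distrib])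

theorem piLift_sgl {n : ℕ} {S : Type*} [CommRing S] [Algebra k S] (g : Fin n → (A →ₐ[k] S)) (i : Fin n) (a : A) :
    piLift g (sgl k A i a) = g i a := by
  classical
  show PiTensorProduct.lift _ (PiTensorProduct.tprod k (MonoidHom.mulSingle (fun _ : Fin n => A) i a)) = _
  rw [PiTensorProduct.lift.tprod]
  simp only [MultilinearMap.compLinearMap_apply, MultilinearMap.mkPiAlgebra_apply, AlgHom.toLinearMap_apply]
  rw [Finset.prod_eq_single i]
  · simp
  · intro j _ hj
    simp [Pi.mulSingle_eq_of_ne hj]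
  · simp

theorem piLift_tprod {n : ℕ} {S : Type*} [CommRing S] [Algebra k S] (g : Fin n → (A →ₐ[k] S)) (f : Fin n → A) :
    piLift g (PiTensorProduct.tprod k f) = ∏ i, g i (f i) := by
  simp [piLift, PiTensorProduct.liftAlgHom]

theorem tprod_eq_prod {n : ℕ} (f : Fin n → A) :
    PiTensorProduct.tprod k f = ∏ i, sgl k A i (f i) := by
  have h : piLift (fun i : Fin n => sgl k A i) = AlgHom.id k (⨂[k] _ : Fin n, A) :=
    PiTensorProduct.algHom_ext fun i => AlgHom.ext fun a => piLift_sgl _ i a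
  rw [← piLift_tprod, h]
  rfl

theorem reindex_eq_piLift {n : ℕ} (σ : Equiv.Perm (Fin n)) (x : ⨂[k] _ : Fin n, A) :
    PiTensorProduct.reindex k (fun _ : Fin n => A) σ x = piLift (fun i => sgl k A (σ i)) x := by
  induction x using PiTensorProduct.induction_on with
  | smul_tprod r f =>
    rw [map_smul, map_smul, PiTensorProduct.reindex_tprod, piLift_tprod, tprod_eq_prod]
    congr 1
    exact (Fintype.prod_equiv σ _ _ (fun i => by simp)).symm
  | add x y hx hy => rw [map_add, map_add, hx, hy]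

variable (k A) in
/-- The pair of inclusions. -/
noncomputable def pairHom {n : ℕ} (i j : Fin n) : A ⊗[k] A →ₐ[k] ⨂[k] _ : Fin n, A :=
  Algebra.TensorProduct.lift (sgl k A i) (sgl k A j) fun _ _ => Commute.all _ _

theorem pairHom_tmul {n : ℕ} (i j : Fin n) (a b : A) :
    pairHom k A i j (a ⊗ₜ[k] b) = sgl k A i a * sgl k A j b :=
  Algebra.TensorProduct.lift_tmul _ _ _ _ _

variable (k A) in
/-- The diagonal ideal of two factors. -/
noncomputable def diag {n : ℕ} (i j : Fin n) : Ideal (⨂[k] _ : Fin n, A) :=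
  Ideal.span (Set.range fun a : A => sgl k A i a - sgl k A j a)

theorem sub_mem_diag {n : ℕ} (i j : Fin n) (a : A) : sgl k A i a - sgl k A j a ∈ diag k A i j :=
  Ideal.subset_span ⟨a, rfl⟩

theorem diag_comm {n : ℕ} (i j : Fin n) : diag k A i j = diag k A j i := by
  have : ∀ i j : Fin n, diag k A i j ≤ diag k A j i := fun i j => Ideal.span_le.2 (by
    rintro _ ⟨a, rfl⟩
    show sgl k A i a - sgl k A j a ∈ _
    rw [← neg_sub]
    exact neg_mem (sub_mem_diag j i a))
  exact le_antisymm (this i j) (this j i)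

theorem map_pairHom {n : ℕ} (i j : Fin n) :
    (KaehlerDifferential.ideal k A).map (pairHom k A i j) = diag k A j i := by
  rw [← KaehlerDifferential.span_range_eq_ideal, Ideal.map_span, ← Set.range_comp, diag]
  congr 2
  funext a
  show pairHom k A i j ((1 : A) ⊗ₜ[k] a - a ⊗ₜ[k] (1 : A)) = _
  rw [map_sub, pairHom_tmul, pairHom_tmul, map_one, map_one, one_mul, mul_one]

theorem sub_mem_diag_of_congr {n : ℕ} (i j : Fin n) (g : Fin n → Fin n)
    (hg : ∀ l, g l = l ∨ (l = i ∧ g l = j) ∨ (l = j ∧ g l = i)) (x : ⨂[k] _ : Fin n, A) :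
    x - piLift (fun l => sgl k A (g l)) x ∈ diag k A i j := by
  have h : (Ideal.Quotient.mkₐ k (diag k A i j)).comp (piLift fun l => sgl k A (g l)) =
      Ideal.Quotient.mkₐ k (diag k A i j) := by
    refine PiTensorProduct.algHom_ext fun l => AlgHom.ext fun a => ?_
    show Ideal.Quotient.mk _ (piLift (fun l => sgl k A (g l)) (sgl k A l a)) = Ideal.Quotient.mk _ (sgl k A l a)
    rw [piLift_sgl, Ideal.Quotient.eq]
    rcases hg l with h | ⟨rfl, h⟩ | ⟨rfl, h⟩
    · rw [h, sub_self]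
      exact zero_mem _
    · rw [h, diag_comm]
      exact sub_mem_diag j l a
    · rw [h]
      exact sub_mem_diag i l a
  exact Ideal.Quotient.eq.1 (AlgHom.congr_fun h x).symm

end Hom

section Local

/-- A copy of the base field in the universe of the algebra gives regularity. -/
theorem isRegularRing_of_smooth' {k : Type u} [Field k] (S : Type v) [CommRing S] [Algebra k S]
    [Algebra.Smooth k S] [Nontrivial S] : IsRegularRing S := by
  haveI : Small.{v} k := small_of_injective (algebraMap k S).injective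
  let e : Shrink.{v} k ≃+* k := Shrink.ringEquiv k
  letI : Algebra (Shrink.{v} k) k := e.toRingHom.toAlgebra
  letI : Algebra (Shrink.{v} k) S := ((algebraMap k S).comp e.toRingHom).toAlgebra
  haveI : IsScalarTower (Shrink.{v} k) k S := IsScalarTower.of_algebraMap_eq fun _ => rfl
  haveI : Algebra.Smooth (Shrink.{v} k) k := Algebra.Smooth.of_equiv
    (AlgEquiv.ofBijective (Algebra.ofId (Shrink.{v} k) k) e.bijective)
  haveI : Algebra.Smooth (Shrink.{v} k) S := Algebra.Smooth.comp _ k S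
  exact GeomProp.isRegularRing_of_smooth (Shrink.{v} k) S

theorem exists_local_generators {C : Type u} [CommRing C] [IsRegularRing C] (J : Ideal C)
    [IsRegularRing (C ⧸ J)] (P : Ideal C) [P.IsPrime] :
    ∃ (n : ℕ) (f : Fin n → J),
      (∀ x ∈ J, ∃ c ∉ P, c * x ∈ Ideal.span (Set.range fun i => (f i : C))) ∧
      ∀ (m : Fin n) (y : C), (f m : C) * y ∈ Ideal.span ((fun i => (f i : C)) '' Set.Iio m) ^ 2 →
        ∃ c ∉ P, c * y ∈ Ideal.span ((fun i => (f i : C)) '' Set.Iio m) ^ 2 := by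
  by_cases hJP : J ≤ P
  swap
  · obtain ⟨c, hcJ, hcP⟩ := SetLike.not_le_iff_exists.1 hJP
    refine ⟨1, fun _ => ⟨c, hcJ⟩, fun x _ => ⟨c, hcP, ?_⟩, fun m y hy => ⟨c, hcP, ?_⟩⟩
    · exact Ideal.mul_mem_right _ _ (Ideal.subset_span ⟨0, rfl⟩)
    · exact hy
  let L := Localization.AtPrime P
  let al := algebraMap C L
  have hn : J.map al ≠ ⊤ := fun h => by
    have : J.map al ≤ IsLocalRing.maximalIdeal L := by
      rw [← Localization.AtPrime.map_eq_maximalIdeal]
      exact Ideal.map_mono hJP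
    exact (IsLocalRing.maximalIdeal.isMaximal L).ne_top (eq_top_iff.2 (h ▸ this))
  haveI : IsRegularRing (L ⧸ J.map al) :=
    GeomProp.isRegularRing_of_isLocalization (R := C ⧸ J) (Algebra.algebraMapSubmonoid (C ⧸ J) P.primeCompl)
      inferInstance
  haveI : IsRegularLocalRing L := isRegularRing_iff.1 inferInstance P
  obtain ⟨r, b, hb, hw⟩ := CotT.exists_wreg_generators (J.map al) hn
  have hmem : ∀ i, ∃ a : J, ∃ u : Lˣ, al (a : C) = u * b i := fun i => by
    obtain ⟨⟨a, s⟩, hs⟩ := (IsLocalization.mem_map_algebraMap_iff P.primeCompl L).1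
      (hb ▸ Ideal.subset_span ⟨i, rfl⟩ : b i ∈ J.map al)
    exact ⟨a, (IsLocalization.map_units L s).unit, by rw [IsUnit.unit_spec, ← hs, mul_comm]⟩
  choose f u hf using hmem
  have hspan : ∀ S : Set (Fin r), (Ideal.span ((fun i => (f i : C)) '' S)).map al = Ideal.span (b '' S) := by
    intro S
    rw [Ideal.map_span, ← Set.image_comp]
    apply le_antisymm <;> rw [Ideal.span_le] <;> rintro _ ⟨i, hi, rfl⟩
    · show al (f i) ∈ _
      rw [hf]
      exact Ideal.mul_mem_left _ _ (Ideal.subset_span ⟨i, hi, rfl⟩)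
    · have : b i = ↑(u i)⁻¹ * al (f i) := by rw [hf, ← mul_assoc, Units.inv_mul, one_mul]
      rw [this]
      exact Ideal.mul_mem_left _ _ (Ideal.subset_span ⟨i, hi, rfl⟩)
  have hback : ∀ (I : Ideal C) (x : C), al x ∈ I.map al → ∃ c ∉ P, c * x ∈ I := fun I x hx => by
    obtain ⟨m, hm, h⟩ := (IsLocalization.algebraMap_mem_map_algebraMap_iff P.primeCompl L I x).1 hx
    exact ⟨m, hm, h⟩
  refine ⟨r, f, fun x hx => hback _ x ?_, fun m y hy => hback _ y ?_⟩
  · rw [← Set.image_univ, hspan, Set.image_univ, hb]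
    exact Ideal.mem_map_of_mem _ hx
  · let b' : Fin m → L := fun i => b (i.castLE m.2.le)
    have hrange : b '' Set.Iio m = Set.range b' := by
      ext z
      exact ⟨fun ⟨i, hi, h⟩ => ⟨⟨i, hi⟩, h⟩, fun ⟨i, h⟩ => ⟨i.castLE m.2.le, i.2, h⟩⟩
    have hw' : ∀ i x, b' i * x ∈ Ideal.span (b' '' Set.Iio i) → x ∈ Ideal.span (b' '' Set.Iio i) := by
      intro i x hx
      have e : b '' Set.Iio (i.castLE m.2.le) = b' '' Set.Iio i := by
        ext z
        exact ⟨fun ⟨l, hl, h⟩ => ⟨⟨l, lt_trans (Fin.lt_def.1 hl) i.2⟩, hl, h⟩,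
          fun ⟨l, hl, h⟩ => ⟨l.castLE m.2.le, hl, h⟩⟩
      rw [← e] at hx ⊢
      exact hw _ x hx
    have h2 : al ((f m : C) * y) ∈ Ideal.span (Set.range b') ^ 2 := by
      rw [← hrange, ← hspan, ← Ideal.map_pow]
      exact Ideal.mem_map_of_mem _ hy
    rw [map_mul, hf, mul_assoc, Ideal.unit_mul_mem_iff_mem _ (u m).isUnit] at h2
    rw [Ideal.map_pow, hspan, hrange]
    have h1 : al y ∈ Ideal.span (Set.range b') := by
      rw [← hrange]
      exact hw m _ (hrange.symm ▸ Ideal.pow_le_self two_ne_zero h2)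
    obtain ⟨a, ha⟩ := Ideal.mem_span_range_iff_exists_fun.1 h1
    have h3 := mem_sq_of_mul_mem b' hw' (fun i => b m * a i) (by
      rw [show ∑ i, b m * a i * b' i = b m * al y by rw [← ha, Finset.mul_sum]; simp only [mul_assoc]]
      exact h2)
    rw [← ha, sq]
    refine sum_mem fun i _ => Ideal.mul_mem_mul ?_ (Ideal.subset_span ⟨i, rfl⟩)
    rw [← hrange]
    exact hw m _ (by rw [hrange]; exact h3 i)

end Local

section Three

variable {k : Type u} [Field k] [CharZero k] {A : Type v} [CommRing A] [Algebra k A] [Algebra.Smooth k A]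
  [IsDomain A]

theorem mem_prod_of_mem_inf_three (x : ⨂[k] _ : Fin 3, A)
    (hx : PiTensorProduct.reindex k (fun _ : Fin 3 => A) (Equiv.swap 0 2) x = x)
    (h01 : x ∈ diag k A 0 1) (h02 : x ∈ diag k A 0 2) (h12 : x ∈ diag k A 1 2) :
    x ∈ diag k A 0 1 * diag k A 1 2 * diag k A 0 2 := by
  classical
  let J := KaehlerDifferential.ideal k A
  let ι₁ := pairHom k A (0 : Fin 3) 1
  let ι₂ := pairHom k A (2 : Fin 3) 1
  let iL : A →ₐ[k] A ⊗[k] A := Algebra.TensorProduct.includeLeft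
  let iR : A →ₐ[k] A ⊗[k] A := Algebra.TensorProduct.includeRight
  let ρ : (⨂[k] _ : Fin 3, A) →ₐ[k] A ⊗[k] A := piLift ![iL, iR, iL]
  let π : (⨂[k] _ : Fin 3, A) →ₐ[k] A ⊗[k] A := piLift ![iL, iR, iR]
  let σ : (⨂[k] _ : Fin 3, A) →ₐ[k] ⨂[k] _ : Fin 3, A := piLift fun i => sgl k A (Equiv.swap (0 : Fin 3) 2 i)
  have hI1 : J.map ι₁ = diag k A 0 1 := by rw [map_pairHom, diag_comm]
  have hI2 : J.map ι₂ = diag k A 1 2 := map_pairHom _ _
  have hρ1 : ∀ c, ρ (ι₁ c) = c := fun c => AlgHom.congr_fun (φ₁ := ρ.comp ι₁) (φ₂ := AlgHom.id k _)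
    (Algebra.TensorProduct.ext' fun a b => by simp only [ρ, ι₁, AlgHom.comp_apply, pairHom_tmul, map_mul, piLift_sgl]; simp [iL, iR]) c
  have hρ2 : ∀ c, ρ (ι₂ c) = c := fun c => AlgHom.congr_fun (φ₁ := ρ.comp ι₂) (φ₂ := AlgHom.id k _)
    (Algebra.TensorProduct.ext' fun a b => by simp only [ρ, ι₂, AlgHom.comp_apply, pairHom_tmul, map_mul, piLift_sgl]; simp [iL, iR]) c
  have hπ1 : ∀ c, π (ι₁ c) = c := fun c => AlgHom.congr_fun (φ₁ := π.comp ι₁) (φ₂ := AlgHom.id k _)
    (Algebra.TensorProduct.ext' fun a b => by simp only [π, ι₁, AlgHom.comp_apply, pairHom_tmul, map_mul, piLift_sgl]; simp [iL, iR]) c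
  have hσ1 : ∀ c, σ (ι₁ c) = ι₂ c := fun c => AlgHom.congr_fun (φ₁ := σ.comp ι₁) (φ₂ := ι₂)
    (Algebra.TensorProduct.ext' fun a b => by simp [σ, ι₁, ι₂, pairHom_tmul, map_mul, piLift_sgl, Equiv.swap_apply_def]) c
  have hσ2 : ∀ c, σ (ι₂ c) = ι₁ c := fun c => AlgHom.congr_fun (φ₁ := σ.comp ι₂) (φ₂ := ι₁)
    (Algebra.TensorProduct.ext' fun a b => by simp [σ, ι₁, ι₂, pairHom_tmul, map_mul, piLift_sgl, Equiv.swap_apply_def]) c
  have he : ι₁.comp π = piLift fun i : Fin 3 => sgl k A (![0, 1, 1] i) :=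
    PiTensorProduct.algHom_ext fun i => AlgHom.ext fun a => by
      show ι₁ (π (sgl k A i a)) = piLift (fun i : Fin 3 => sgl k A (![0, 1, 1] i)) (sgl k A i a)
      rw [piLift_sgl, piLift_sgl]
      fin_cases i <;> simp [ι₁, iL, iR, pairHom_tmul]
  have heρ : ι₁.comp ρ = piLift fun i : Fin 3 => sgl k A (![0, 1, 0] i) :=
    PiTensorProduct.algHom_ext fun i => AlgHom.ext fun a => by
      show ι₁ (ρ (sgl k A i a)) = piLift (fun i : Fin 3 => sgl k A (![0, 1, 0] i)) (sgl k A i a)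
      rw [piLift_sgl, piLift_sgl]
      fin_cases i <;> simp [ι₁, iL, iR, pairHom_tmul]
  have hr0 : ∀ r, r - ι₁ (π r) ∈ diag k A 1 2 := fun r => by
    rw [show ι₁ (π r) = (ι₁.comp π) r from rfl, he]
    exact sub_mem_diag_of_congr 1 2 _ (fun l => by fin_cases l <;> simp) r
  have hr1 : ∀ r, r - ι₁ (ρ r) ∈ diag k A 0 2 := fun r => by
    rw [show ι₁ (ρ r) = (ι₁.comp ρ) r from rfl, heρ]
    exact sub_mem_diag_of_congr 0 2 _ (fun l => by fin_cases l <;> simp) r
  have hr2 : ∀ r, r - σ r ∈ diag k A 0 2 := fun r =>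
    sub_mem_diag_of_congr 0 2 (fun i => Equiv.swap (0 : Fin 3) 2 i)
      (fun l => by fin_cases l <;> simp [Equiv.swap_apply_def]) r
  have hρ02 : ρ x = 0 := by
    have : diag k A (0 : Fin 3) 2 ≤ RingHom.ker ρ.toRingHom := Ideal.span_le.2 (by
      rintro _ ⟨a, rfl⟩
      show ρ (_ - _) = 0
      rw [map_sub, piLift_sgl, piLift_sgl]
      simp)
    exact this h02
  have hπ12 : π x = 0 := by
    have : diag k A (1 : Fin 3) 2 ≤ RingHom.ker π.toRingHom := Ideal.span_le.2 (by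
      rintro _ ⟨a, rfl⟩
      show π (_ - _) = 0
      rw [map_sub, piLift_sgl, piLift_sgl]
      simp)
    exact this h12
  have hxmul : x ∈ diag k A 0 1 * diag k A 1 2 := by
    have h : ∀ y ∈ diag k A (0 : Fin 3) 1, y - ι₁ (π y) ∈ diag k A 0 1 * diag k A 1 2 := by
      intro y hy
      rw [← hI1, Ideal.map] at hy
      rw [← hI1]
      refine Submodule.span_induction ?_ (by simp) ?_ ?_ hy
      · rintro _ ⟨j, -, rfl⟩
        show ι₁ j - ι₁ (π (ι₁ j)) ∈ _
        rw [hπ1, sub_self]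
        exact zero_mem _
      · intro a b _ _ ha hb
        rw [map_add, map_add, add_sub_add_comm]
        exact add_mem ha hb
      · intro r a ha' ha
        rw [smul_eq_mul, map_mul, map_mul,
          show r * a - ι₁ (π r) * ι₁ (π a) = a * (r - ι₁ (π r)) + ι₁ (π r) * (a - ι₁ (π a)) by ring]
        exact add_mem (Ideal.mul_mem_mul ha' (hr0 r)) (Ideal.mul_mem_left _ _ ha)
    have := h x h01
    rwa [hπ12, map_zero, sub_zero] at this
  let P := diag k A 0 1 * diag k A 1 2 * diag k A (0 : Fin 3) 2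
  have hP : ∀ {y d : ⨂[k] _ : Fin 3, A}, y ∈ diag k A 0 1 * diag k A 1 2 → d ∈ diag k A 0 2 → d * y ∈ P :=
    fun hy hd => mul_comm _ (_ : ⨂[k] _ : Fin 3, A) ▸ Ideal.mul_mem_mul hy hd
  let mk := Ideal.Quotient.mk P
  letI : Algebra (A ⊗[k] A) ((⨂[k] _ : Fin 3, A) ⧸ P) := (mk.comp ι₁.toRingHom).toAlgebra
  have hsmul : ∀ (c : A ⊗[k] A) y, c • mk y = mk (ι₁ c * y) := fun c y => by
    rw [Algebra.smul_def, map_mul]
    rfl
  have hprod : ∀ {j j' : A ⊗[k] A}, j ∈ J → j' ∈ J → ι₁ j * ι₂ j' ∈ diag k A 0 1 * diag k A 1 2 := fun hj hj' =>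
    Ideal.mul_mem_mul (hI1 ▸ Ideal.mem_map_of_mem _ hj) (hI2 ▸ Ideal.mem_map_of_mem _ hj')
  have hswap : ∀ (c : A ⊗[k] A) {j j' : A ⊗[k] A}, j ∈ J → j' ∈ J →
      mk (ι₁ j * ι₂ (c * j')) = mk (ι₁ c * (ι₁ j * ι₂ j')) := fun c j j' hj hj' => by
    refine Ideal.Quotient.eq.2 ?_
    rw [map_mul, show ι₁ j * (ι₂ c * ι₂ j') - ι₁ c * (ι₁ j * ι₂ j') = (ι₂ c - ι₁ c) * (ι₁ j * ι₂ j') by ring]
    exact hP (hprod hj hj') (by simpa [hρ2] using hr1 (ι₂ c))
  let β : J → J → (⨂[k] _ : Fin 3, A) ⧸ P := fun a b => mk (ι₁ (a : A ⊗[k] A) * ι₂ (b : A ⊗[k] A))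
  have hβ1 : ∀ (c : A ⊗[k] A) (a b : J), β (c • a) b = c • β a b := fun c a b => by
    rw [hsmul]
    show mk (ι₁ (c * (a : A ⊗[k] A)) * _) = _
    rw [map_mul ι₁, mul_assoc]
  have hβ2 : ∀ (c : A ⊗[k] A) (a b : J), β a (c • b) = c • β a b := fun c a b => by
    rw [hsmul]
    exact hswap c a.2 b.2
  have hβa : ∀ a a' b : J, β (a + a') b = β a b + β a' b := fun a a' b => by
    simp [β, add_mul]
  have hβa' : ∀ a b b' : J, β a (b + b') = β a b + β a b' := fun a b b' => by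
    simp [β, mul_add]
  let B : J →ₗ[A ⊗[k] A] J →ₗ[A ⊗[k] A] (⨂[k] _ : Fin 3, A) ⧸ P :=
    LinearMap.mk₂ (A ⊗[k] A) (fun a b => β a b + β b a)
      (fun a a' b => by rw [hβa, hβa']; abel) (fun c a b => by rw [hβ1, hβ2, smul_add])
      (fun a b b' => by rw [hβa', hβa]; abel) (fun c a b => by rw [hβ2, hβ1, smul_add])
  let N := Submodule.span (A ⊗[k] A) {w | ∃ a b, pairMul B a b = w}
  have hN : (mk (x + σ x), ρ x) ∈ N := by
    have h : ∀ y ∈ diag k A 0 1 * diag k A 1 2, σ y ∈ diag k A 0 1 * diag k A 1 2 ∧ (mk (y + σ y), ρ y) ∈ N := by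
      intro y hy
      rw [← hI1, ← hI2, Ideal.map, Ideal.map, Ideal.span_mul_span'] at hy
      refine Submodule.span_induction ?_ ?_ ?_ ?_ hy
      · rintro _ ⟨_, ⟨j, hj, rfl⟩, _, ⟨j', hj', rfl⟩, rfl⟩
        have hs : σ (ι₁ j * ι₂ j') = ι₁ j' * ι₂ j := by rw [map_mul, hσ1, hσ2, mul_comm]
        show σ (ι₁ j * ι₂ j') ∈ _ ∧ (mk (ι₁ j * ι₂ j' + σ (ι₁ j * ι₂ j')), ρ (ι₁ j * ι₂ j')) ∈ N
        refine ⟨hs ▸ hprod hj' hj, Submodule.subset_span ⟨⟨j, hj⟩, ⟨j', hj'⟩, Prod.ext ?_ ?_⟩⟩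
        · rw [hs]
          exact (map_add mk _ _).symm
        · show j * j' = ρ (ι₁ j * ι₂ j')
          rw [map_mul, hρ1, hρ2]
      · refine ⟨by simp, ?_⟩
        simp only [map_zero, add_zero]
        exact zero_mem N
      · rintro a b - - ⟨ha, ha'⟩ ⟨hb, hb'⟩
        refine ⟨by rw [map_add]; exact add_mem ha hb, ?_⟩
        rw [show a + b + σ (a + b) = (a + σ a) + (b + σ b) by rw [map_add]; abel, map_add mk, map_add ρ]
        exact add_mem ha' hb'
      · rintro r a ha0 ⟨ha, ha'⟩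
        have ha0 : a ∈ diag k A 0 1 * diag k A 1 2 := by
          rw [← hI1, ← hI2, Ideal.map, Ideal.map, Ideal.span_mul_span']
          exact ha0
        rw [smul_eq_mul]
        refine ⟨by rw [map_mul]; exact Ideal.mul_mem_left _ _ ha, ?_⟩
        have e : mk (r * a + σ (r * a)) = ρ r • mk (a + σ a) := by
          rw [hsmul]
          refine Ideal.Quotient.eq.2 ?_
          rw [map_mul, show r * a + σ r * σ a - ι₁ (ρ r) * (a + σ a) =
            (r - ι₁ (ρ r)) * a + ((r - ι₁ (ρ r)) - (r - σ r)) * σ a by ring]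
          exact add_mem (hP ha0 (hr1 r)) (hP ha (sub_mem (hr1 r) (hr2 r)))
        rw [e, map_mul]
        exact Submodule.smul_mem N (ρ r) ha'
    exact (h x hxmul).2
  haveI : Algebra.Smooth k (A ⊗[k] A) := Algebra.Smooth.comp k A _
  haveI : IsRegularRing A := isRegularRing_of_smooth' (k := k) A
  haveI : IsRegularRing (A ⊗[k] A) := by
    haveI : Nontrivial (A ⊗[k] A) := (Algebra.TensorProduct.lmul' k (S := A)).toRingHom.domain_nontrivial
    exact isRegularRing_of_smooth' (k := k) (A ⊗[k] A)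
  haveI : IsRegularRing ((A ⊗[k] A) ⧸ J) := IsRegularRing.of_ringEquiv
    (RingHom.quotientKerEquivOfSurjective (f := (Algebra.TensorProduct.lmul' k (S := A)).toRingHom)
      (fun a => ⟨a ⊗ₜ[k] (1 : A), by simp⟩)).symm
  have hzero : mk (x + σ x) = 0 := fst_eq_zero_of_locally_regular B (fun a b => add_comm _ _)
    (fun Q hQ => haveI := hQ.isPrime; exists_local_generators J Q) _ hN hρ02
  rw [← reindex_eq_piLift] at hzero
  rw [hx, Ideal.Quotient.eq_zero_iff_mem, ← two_mul] at hzero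
  have h2 : IsUnit (2 : ⨂[k] _ : Fin 3, A) := by
    rw [← map_ofNat (algebraMap k (⨂[k] _ : Fin 3, A)) 2]
    exact (Ne.isUnit two_ne_zero).map _
  exact (Ideal.unit_mul_mem_iff_mem _ h2).1 hzero

end Three

end Groth.Agent.DiagIdeal
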